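import Mathlib

set_option autoImplicit false
universe u

namespace Groth.Agent.T1ci8
open MvPolynomial

variable {P : Type u} [CommRing P]

theorem rel_mem : ∀ (n : ℕ) (f : Fin n → P),
    (∀ (i : Fin n) (x : P), x * f i ∈ Ideal.span (f '' {j | (j : ℕ) < i}) → x ∈ Ideal.span (f '' {j | (j : ℕ) < i})) →
    ∀ a : Fin n → P, ∑ i, a i * f i = 0 → ∀ i, a i ∈ Ideal.span (Set.range f) := by
  intro n
  induction n with
  | zero => exact fun _ _ _ _ i => i.elim0
  | succ n ih =>
    intro f hf a ha
    rw [Fin.sum_univ_castSucc] at ha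
    have himg : f '' {j : Fin (n + 1) | (j : ℕ) < n} = Set.range (f ∘ Fin.castSucc) := by
      ext y
      constructor
      · rintro ⟨j, hj, rfl⟩; exact ⟨⟨j, hj⟩, rfl⟩
      · rintro ⟨j, rfl⟩; exact ⟨j.castSucc, j.2, rfl⟩
    have hle : Ideal.span (Set.range (f ∘ Fin.castSucc)) ≤ Ideal.span (Set.range f) :=
      Ideal.span_mono (Set.range_comp_subset_range _ _)
    have hlast : a (Fin.last n) ∈ Ideal.span (Set.range (f ∘ Fin.castSucc)) := by
      have h := hf (Fin.last n) (a (Fin.last n))
      rw [Fin.val_last, himg] at h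
      refine h ?_
      rw [eq_neg_of_add_eq_zero_right ha]
      exact neg_mem (Ideal.sum_mem _ fun i _ => Ideal.mul_mem_left _ _ (Ideal.subset_span (Set.mem_range_self i)))
    obtain ⟨c, hc⟩ := Ideal.mem_span_range_iff_exists_fun.mp hlast
    have hrel : ∑ i : Fin n, (a i.castSucc + c i * f (Fin.last n)) * (f ∘ Fin.castSucc) i = 0 := by
      rw [← ha, ← hc]
      simp only [add_mul, Finset.sum_add_distrib, Finset.sum_mul, Function.comp_apply]
      congr 1
      exact Finset.sum_congr rfl fun i _ => by ring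
    have hI := ih (f ∘ Fin.castSucc) (fun i x hx => by
      have himg2 : (f ∘ Fin.castSucc) '' {j | (j : ℕ) < i} = f '' {j | (j : ℕ) < (i.castSucc : Fin (n+1))} := by
        ext y
        constructor
        · rintro ⟨j, hj, rfl⟩; exact ⟨j.castSucc, hj, rfl⟩
        · rintro ⟨j, hj, rfl⟩
          have hj' : (j : ℕ) < i := hj
          exact ⟨⟨j, by omega⟩, hj', rfl⟩
      rw [himg2] at hx ⊢
      exact hf i.castSucc x hx) _ hrel
    intro i
    induction i using Fin.lastCases with
    | last => exact hle hlast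
    | cast j =>
      have h1 := hle (hI j)
      rw [show a j.castSucc = (a j.castSucc + c j * f (Fin.last n)) - c j * f (Fin.last n) by ring]
      exact sub_mem h1 (Ideal.mul_mem_left _ _ (Ideal.subset_span (Set.mem_range_self _)))

theorem of_weaklyRegular {n : ℕ} (f : Fin n → P) (hreg : RingTheory.Sequence.IsWeaklyRegular P (List.ofFn f)) :
    ∀ (i : Fin n) (x : P), x * f i ∈ Ideal.span (f '' {j | (j : ℕ) < i}) → x ∈ Ideal.span (f '' {j | (j : ℕ) < i}) := by
  intro i x hx
  have hlt : (i : ℕ) < (List.ofFn f).length := by simp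
  have h := hreg.regular_mod_prev i hlt
  have hI : (Ideal.ofList ((List.ofFn f).take i) • ⊤ : Submodule P P) = Ideal.span (f '' {j | (j : ℕ) < i}) := by
    rw [smul_eq_mul, Ideal.mul_top, Ideal.ofList]
    congr 1
    ext y
    simp only [Set.mem_ofPred_eq, List.mem_take_iff_getElem, List.getElem_ofFn, List.length_ofFn, Set.mem_image]
    constructor
    · rintro ⟨j, hj, rfl⟩; exact ⟨⟨j, by omega⟩, (lt_min_iff.mp hj).1, rfl⟩
    · rintro ⟨j, hj, rfl⟩; exact ⟨j, lt_min hj (by omega), rfl⟩
  have h2 : Submodule.Quotient.mk x = (0 : P ⧸ (Ideal.ofList ((List.ofFn f).take i) • ⊤ : Submodule P P)) := by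
    refine h ?_
    show (List.ofFn f)[(i : ℕ)] • _ = (List.ofFn f)[(i : ℕ)] • 0
    rw [smul_zero, ← Submodule.Quotient.mk_smul, Submodule.Quotient.mk_eq_zero, hI, List.getElem_ofFn, smul_eq_mul, mul_comm]
    exact hx
  rw [Submodule.Quotient.mk_eq_zero, hI] at h2
  exact h2

theorem t1 (k : Type u) [Field k] (d n : ℕ)
    (f : Fin n → MvPolynomial (Fin d) k) (hreg : RingTheory.Sequence.IsWeaklyRegular (MvPolynomial (Fin d) k) (List.ofFn f)) :
    ∃ e : ((↥(Ideal.span (Set.range f)) →ₗ[MvPolynomial (Fin d) k] (MvPolynomial (Fin d) k ⧸ Ideal.span (Set.range f))) ⧸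
            Submodule.span (MvPolynomial (Fin d) k)
              {ψ : ↥(Ideal.span (Set.range f)) →ₗ[MvPolynomial (Fin d) k] (MvPolynomial (Fin d) k ⧸ Ideal.span (Set.range f)) |
                ∃ D : Derivation k (MvPolynomial (Fin d) k) (MvPolynomial (Fin d) k ⧸ Ideal.span (Set.range f)), ∀ a : ↥(Ideal.span (Set.range f)), ψ a = D (a : MvPolynomial (Fin d) k)}) ≃ₗ[MvPolynomial (Fin d) k]
          ((Fin n → MvPolynomial (Fin d) k ⧸ Ideal.span (Set.range f)) ⧸
            Submodule.span (MvPolynomial (Fin d) k ⧸ Ideal.span (Set.range f))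
              (Set.range fun j : Fin d => fun i : Fin n => Ideal.Quotient.mk (Ideal.span (Set.range f)) (pderiv j (f i)))),
      ∀ φ : ↥(Ideal.span (Set.range f)) →ₗ[MvPolynomial (Fin d) k] (MvPolynomial (Fin d) k ⧸ Ideal.span (Set.range f)),
        e (Submodule.Quotient.mk φ) =
          Submodule.Quotient.mk (fun i : Fin n => φ ⟨f i, Ideal.subset_span (Set.mem_range_self i)⟩) := by
  classical
  set J := Ideal.span (Set.range f) with hJdef
  have hfJ : ∀ i, f i ∈ J := fun i => Ideal.subset_span (Set.mem_range_self i)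
  have hsmul : ∀ (r : MvPolynomial (Fin d) k) (x : MvPolynomial (Fin d) k ⧸ J), r • x = Ideal.Quotient.mk J r * x := by
    intro r x; obtain ⟨q, rfl⟩ := Ideal.Quotient.mk_surjective x; rfl
  let ev : (J →ₗ[(MvPolynomial (Fin d) k)] (MvPolynomial (Fin d) k) ⧸ J) →ₗ[(MvPolynomial (Fin d) k)] (Fin n → (MvPolynomial (Fin d) k) ⧸ J) :=
    { toFun := fun φ i => φ ⟨f i, hfJ i⟩
      map_add' := fun a b => rfl
      map_smul' := fun a b => rfl }
  let π : (Fin n → (MvPolynomial (Fin d) k)) →ₗ[(MvPolynomial (Fin d) k)] J := (Fintype.linearCombination (MvPolynomial (Fin d) k) f).codRestrict J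
    (fun a => by rw [Fintype.linearCombination_apply]; exact Ideal.sum_mem _ fun i _ => Ideal.mul_mem_left _ _ (hfJ i))
  have hπ : Function.Surjective π := by
    rintro ⟨x, hx⟩
    obtain ⟨c, hc⟩ := Ideal.mem_span_range_iff_exists_fun.mp hx
    exact ⟨c, Subtype.ext (by simpa [π, Fintype.linearCombination_apply] using hc)⟩
  have hπ1 : ∀ i, π (Pi.single i 1) = ⟨f i, hfJ i⟩ := fun i => Subtype.ext (by simp [π])
  have evinj : Function.Injective ev := by
    intro a b h
    apply LinearMap.ext
    intro x
    obtain ⟨c, rfl⟩ := hπ x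
    have : a.comp π = b.comp π := by
      refine (Pi.basisFun (MvPolynomial (Fin d) k) (Fin n)).ext fun i => ?_
      simp only [Pi.basisFun_apply, LinearMap.comp_apply, hπ1]
      exact congrFun h i
    exact LinearMap.congr_fun this c
  have evsurj : Function.Surjective ev := by
    intro v
    let g : (Fin n → (MvPolynomial (Fin d) k)) →ₗ[(MvPolynomial (Fin d) k)] (MvPolynomial (Fin d) k) ⧸ J := Fintype.linearCombination (MvPolynomial (Fin d) k) v
    have hg : LinearMap.ker π ≤ LinearMap.ker g := by
      intro c hc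
      have h0 : ∑ i, c i * f i = 0 := by
        simpa [π, Fintype.linearCombination_apply] using congrArg Subtype.val (LinearMap.mem_ker.mp hc)
      have := rel_mem n f (of_weaklyRegular f hreg) c h0
      rw [LinearMap.mem_ker]
      simp only [g, Fintype.linearCombination_apply]
      refine Finset.sum_eq_zero fun i _ => ?_
      rw [hsmul, Ideal.Quotient.eq_zero_iff_mem.mpr (this i), zero_mul]
    let φ : J →ₗ[(MvPolynomial (Fin d) k)] (MvPolynomial (Fin d) k) ⧸ J := (Submodule.liftQ _ g hg).comp (π.quotKerEquivOfSurjective hπ).symm.toLinearMap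
    refine ⟨φ, funext fun i => ?_⟩
    show φ ⟨f i, hfJ i⟩ = v i
    rw [← hπ1]
    have e1 : (π.quotKerEquivOfSurjective hπ).symm (π (Pi.single i 1)) = Submodule.Quotient.mk (Pi.single i 1) := by
      rw [LinearEquiv.symm_apply_eq]; rfl
    simp [φ, e1, g]
  let E := LinearEquiv.ofBijective ev ⟨evinj, evsurj⟩
  let W := Submodule.span ((MvPolynomial (Fin d) k) ⧸ J) (Set.range fun j : Fin d => fun i : Fin n => Ideal.Quotient.mk J (pderiv j (f i)))
  let T : (J →ₗ[(MvPolynomial (Fin d) k)] (MvPolynomial (Fin d) k) ⧸ J) →ₗ[(MvPolynomial (Fin d) k)] ((Fin n → (MvPolynomial (Fin d) k) ⧸ J) ⧸ W) := (W.mkQ.restrictScalars (MvPolynomial (Fin d) k)).comp ev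
  have hT : Function.Surjective T := W.mkQ_surjective.comp evsurj
  have hker : LinearMap.ker T = Submodule.span (MvPolynomial (Fin d) k) {ψ : J →ₗ[(MvPolynomial (Fin d) k)] (MvPolynomial (Fin d) k) ⧸ J | ∃ D : Derivation k (MvPolynomial (Fin d) k) ((MvPolynomial (Fin d) k) ⧸ J), ∀ a : J, ψ a = D (a : (MvPolynomial (Fin d) k))} := by
    apply le_antisymm
    · intro φ hφ
      have hW : ev φ ∈ W := (Submodule.Quotient.mk_eq_zero _).mp hφ
      obtain ⟨c, hc⟩ := (Submodule.mem_span_range_iff_exists_fun _).mp hW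
      refine Submodule.subset_span ⟨mkDerivation k c, fun a => ?_⟩
      have hD : ∀ q : (MvPolynomial (Fin d) k), mkDerivation k c q = ∑ j, c j * Ideal.Quotient.mk J (pderiv j q) := by
        intro q
        induction q using MvPolynomial.induction_on with
        | C r => simp
        | add p q hp hq => simp only [map_add, hp, hq, mul_add, Finset.sum_add_distrib]
        | mul_X p i hp =>
          rw [Derivation.leibniz, mkDerivation_X, hp]
          simp only [pderiv_mul, pderiv_X, map_add, map_mul, mul_add, Finset.sum_add_distrib, Finset.smul_sum, Finset.mul_sum, hsmul]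
          rw [add_comm]
          congr 1
          · exact Finset.sum_congr rfl fun l _ => by ring
          · rw [Finset.sum_eq_single i (fun l _ hl => by simp [Pi.single_eq_of_ne' hl]) (by simp)]
            simp [mul_comm]
      have hlin : ∀ (r : (MvPolynomial (Fin d) k)) (a : J), mkDerivation k c ((r • a : J) : (MvPolynomial (Fin d) k)) = r • mkDerivation k c (a : (MvPolynomial (Fin d) k)) := by
        intro r a
        rw [Submodule.coe_smul, smul_eq_mul, Derivation.leibniz]
        rw [hsmul (a : MvPolynomial (Fin d) k), Ideal.Quotient.eq_zero_iff_mem.mpr a.2, zero_mul, add_zero]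
      let ψ : J →ₗ[(MvPolynomial (Fin d) k)] (MvPolynomial (Fin d) k) ⧸ J :=
        { toFun := fun a => mkDerivation k c (a : (MvPolynomial (Fin d) k))
          map_add' := fun a b => by simp
          map_smul' := hlin }
      have : φ = ψ := evinj (funext fun i => by
        show φ ⟨f i, _⟩ = mkDerivation k c (f i)
        rw [hD]
        have := congrFun hc i
        simp only [Finset.sum_apply, Pi.smul_apply, smul_eq_mul] at this
        exact this.symm)
      rw [this]; rfl
    · refine Submodule.span_le.mpr ?_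
      rintro ψ ⟨D, hD⟩
      refine LinearMap.mem_ker.mpr ((Submodule.Quotient.mk_eq_zero _).mpr ?_)
      refine (Submodule.mem_span_range_iff_exists_fun _).mpr ⟨fun j => D (X j), funext fun i => ?_⟩
      show _ = ψ ⟨f i, _⟩
      rw [hD]
      have e : D = mkDerivation k (fun j => D (X j)) := derivation_ext fun j => by rw [mkDerivation_X]
      simp only [Finset.sum_apply, Pi.smul_apply, smul_eq_mul]
      conv_rhs => rw [e]
      generalize (f i) = q
      induction q using MvPolynomial.induction_on with
      | C r => simp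
      | add p q hp hq => simp only [map_add, mul_add, Finset.sum_add_distrib, hp, hq]
      | mul_X p i hp =>
          rw [Derivation.leibniz, mkDerivation_X, ← hp]
          simp only [pderiv_mul, pderiv_X, map_add, map_mul, mul_add, Finset.sum_add_distrib, Finset.smul_sum, Finset.mul_sum, hsmul]
          rw [add_comm]
          congr 1
          · rw [Finset.sum_eq_single i (fun l _ hl => by simp [Pi.single_eq_of_ne' hl]) (by simp)]
            simp [mul_comm]
          · exact Finset.sum_congr rfl fun l _ => by ring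
  refine ⟨(Submodule.quotEquivOfEq _ _ hker.symm).trans (T.quotKerEquivOfSurjective hT), fun φ => ?_⟩
  rfl

end Groth.Agent.T1ci8
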